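import Mathlib

/-!
# NO-3S, `|V| = 4`, TwoMid-B: the transvection lemma (helper711 #18281 (9), (10)), abstract

`H` acts on the elementary abelian 2-group `M = ⟨r^H⟩`, `T` is a 2-group with `C_M(T) = {1, r}`, `I ≤ Θ` are subgroups of
`M`, `r ∈ I`, `I` is invariant under `C_H(r)`, `Θ` has index 2, `S = {g : [M, g] ≤ I, [I, g] = 1}`, the vectors outside
`Θ` are `S`-regular (modulo the kernel), `x ∈ S` is a transvection with axis `Θ`.

* `Trv.main` : every `g ∈ S` acts trivially or as `x`.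
-/

set_option autoImplicit false

namespace Cfsg.Agent.Omega.NO3S.TwoMid.Beta

open Subgroup

universe u v

theorem iff_aux {a b c a' b' c' : Prop} (h1 : a ↔ (b ↔ c)) (h2 : a' ↔ (b' ↔ c')) :
    (a ↔ a') ↔ ((b ↔ b') ↔ (c ↔ c')) := by
  rw [h1, h2]
  by_cases hb : b <;> by_cases hc : c <;> by_cases hb' : b' <;> by_cases hc' : c' <;>
    simp only [hb, hc, hb', hc', iff_true, iff_false, not_true]

theorem iff_aux' (a b : Prop) : a ↔ (b ↔ (a ↔ b)) := by
  by_cases ha : a <;> by_cases hb : b <;> simp only [ha, hb, iff_true, iff_false, not_true]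

/-- the situation -/
structure Trv (H : Type u) (M : Type v) [Group H] [Group M] [MulDistribMulAction H M] (r : M) (T : Subgroup H)
    (I Θ : Subgroup M) (x : H) : Prop where
  comm : ∀ v w : M, v * w = w * v
  sq : ∀ v : M, v * v = 1
  two : IsPGroup 2 T
  fixT : ∀ t ∈ T, t • r = r
  fix : ∀ m : M, (∀ t ∈ T, t • m = m) → m = 1 ∨ m = r
  gen : closure (Set.range fun h : H => h • r) = ⊤
  inv : ∀ h : H, h • r = r → ∀ m ∈ I, h • m ∈ I
  r_mem : r ∈ I
  le : I ≤ Θ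
  idx : Θ.index = 2
  reg : ∀ g : H, (∀ m, (g • m) * m⁻¹ ∈ I) → (∀ m ∈ I, g • m = m) → ∀ v : M, v ∉ Θ → g • v = v → ∀ m : M, g • m = m
  x_ne : ∃ m : M, x • m ≠ m
  x_mem : ∀ m, (x • m) * m⁻¹ ∈ I
  x_fix : ∀ m ∈ Θ, x • m = m

namespace Trv

variable {H : Type u} {M : Type v} [Group H] [Group M] [MulDistribMulAction H M] {r : M} {T : Subgroup H}
  {I Θ : Subgroup M} {x : H}

/-- `S` -/
def SS (I : Subgroup M) (g : H) : Prop := (∀ m : M, (g • m) * m⁻¹ ∈ I) ∧ ∀ m ∈ I, g • m = m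

theorem SS.mul {g k : H} (hg : SS I g) (hk : SS I k) : SS I (g * k) := by
  refine ⟨fun m => ?_, fun m hm => by rw [mul_smul, hk.2 m hm, hg.2 m hm]⟩
  have e : (g * k) • m * m⁻¹ = (g • (k • m)) * (k • m)⁻¹ * ((k • m) * m⁻¹) := by
    rw [mul_smul]; group
  rw [e]
  exact mul_mem (hg.1 _) (hk.1 m)

theorem SS.inv {g : H} (hg : SS I g) : SS I g⁻¹ := by
  refine ⟨fun m => ?_, fun m hm => by rw [inv_smul_eq_iff, hg.2 m hm]⟩
  have h1 := inv_mem (hg.1 (g⁻¹ • m))
  rwa [smul_inv_smul, mul_inv_rev, inv_inv] at h1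

variable (h : Trv H M r T I Θ x)
include h

theorem inv_eq (v : M) : v⁻¹ = v := inv_eq_of_mul_eq_one_left (h.sq v)

theorem r_ne : r ≠ 1 := by
  rintro rfl
  obtain ⟨m, hm⟩ := h.x_ne
  apply hm
  have h1 : (⊤ : Subgroup M) ≤ ⊥ := by
    rw [← h.gen, closure_le]
    rintro _ ⟨g, rfl⟩
    simp
  have h2 : ∀ m : M, m = 1 := fun m => by simpa using h1 (mem_top m)
  rw [h2 (x • m), h2 m]

theorem mul_mem_iff {a b : M} : a * b ∈ Θ ↔ (a ∈ Θ ↔ b ∈ Θ) := mul_mem_iff_of_index_two h.idx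

theorem SSx : SS I x := ⟨h.x_mem, fun m hm => h.x_fix m (h.le hm)⟩

/-- conjugates of elements of `S` by elements of `C_H(r)` -/
theorem SS_conj {g k : H} (hg : SS I g) (hk : k • r = r) : SS I (k * g * k⁻¹) := by
  have hk' : k⁻¹ • r = r := by rw [inv_smul_eq_iff, hk]
  refine ⟨fun m => ?_, fun m hm => ?_⟩
  · have h1 := h.inv k hk _ (hg.1 (k⁻¹ • m))
    rwa [smul_mul', smul_inv', smul_inv_smul, ← mul_smul, ← mul_smul] at h1
  · rw [mul_smul, mul_smul, hg.2 _ (h.inv _ hk' m hm), smul_inv_smul]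

/-- an element of `S` which centralises a vector outside `Θ` acts trivially -/
theorem le_of_fix {g : H} (hg : SS I g) {Θ' : Subgroup M} (hΘ' : ∀ m ∈ Θ', g • m = m) (hne : ∃ m : M, g • m ≠ m) :
    Θ' ≤ Θ := by
  intro m hm
  by_contra hn
  obtain ⟨m', hm'⟩ := hne
  exact hm' (h.reg g hg.1 hg.2 m hn (hΘ' m hm) m')

/-- `Θ` is invariant under `C_H(r)` -/
theorem smul_mem {k : H} (hk : k • r = r) {m : M} (hm : m ∈ Θ) : k • m ∈ Θ := by
  by_contra hn
  obtain ⟨m', hm'⟩ := h.x_ne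
  have h1 := h.SS_conj h.SSx hk
  have h2 := h.reg _ h1.1 h1.2 (k • m) hn (by rw [mul_smul, mul_smul, inv_smul_smul, h.x_fix m hm])
  have h3 := h2 (k • m')
  rw [mul_smul, mul_smul, inv_smul_smul] at h3
  exact hm' (smul_left_cancel k h3)

theorem smul_mem_iff {k : H} (hk : k • r = r) {m : M} : k • m ∈ Θ ↔ m ∈ Θ := by
  refine ⟨fun h1 => ?_, h.smul_mem hk⟩
  have := h.smul_mem (k := k⁻¹) (by rw [inv_smul_eq_iff, hk]) h1
  rwa [inv_smul_smul] at this

theorem top_not_le : ∃ h : H, h • r ∉ Θ := by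
  by_contra hcon
  push Not at hcon
  have h1 : (⊤ : Subgroup M) ≤ Θ := by
    rw [← h.gen, closure_le]
    rintro _ ⟨g, rfl⟩
    exact hcon g
  have h2 := h.idx
  rw [top_le_iff.mp h1, index_top] at h2
  omega

/-- a nontrivial `T`-invariant subgroup contains `r` -/
theorem mem_of_inv [Finite M] {E : Subgroup M} (hET : ∀ t ∈ T, ∀ e ∈ E, t • e ∈ E) (hE1 : E ≠ ⊥) : r ∈ E := by
  have hT := h.two
  have : Fact (Nat.Prime 2) := ⟨Nat.prime_two⟩
  let _ : MulAction T E :=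
    { smul := fun t e => ⟨(t : H) • (e : M), hET t t.2 e e.2⟩
      one_smul := fun e => Subtype.ext (one_smul H (e : M))
      mul_smul := fun t t' e => Subtype.ext (mul_smul (t : H) (t' : H) (e : M)) }
  obtain ⟨e0, he0⟩ := Subgroup.ne_bot_iff_exists_ne_one.1 hE1
  have hcard : 2 ∣ Nat.card E := by
    have h1 : orderOf e0 = 2 := orderOf_eq_prime (by rw [pow_two]; exact Subtype.ext (h.sq e0)) he0
    rw [← h1]
    exact orderOf_dvd_natCard e0
  have hfix1 : (1 : E) ∈ MulAction.fixedPoints T E := fun t => Subtype.ext (smul_one (t : H))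
  obtain ⟨e, he, hne⟩ := hT.exists_fixed_point_of_prime_dvd_card_of_fixed_point E hcard hfix1
  rcases h.fix e (fun t ht => congrArg Subtype.val (he ⟨t, ht⟩)) with h1 | h1
  · exact absurd (Subtype.ext h1.symm) hne
  · have := e.2
    rw [h1] at this
    exact this

/-- the transvection with centre `r` -/
theorem exists_tau [Finite M] : ∃ t : H, SS I t ∧ (∀ m ∈ Θ, t • m = m) ∧ ∀ m, m ∉ Θ → t • m = m * r := by
  -- the group of centres
  let E : Subgroup M :=
    { carrier := {e | ∃ g : H, SS I g ∧ (∀ m ∈ Θ, g • m = m) ∧ ∀ m, m ∉ Θ → g • m = m * e}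
      mul_mem' := by
        rintro e e' ⟨g, h1, h2, h3⟩ ⟨g', h1', h2', h3'⟩
        refine ⟨g * g', h1.mul h1', fun m hm => by rw [mul_smul, h2' m hm, h2 m hm], fun m hm => ?_⟩
        have he' : e' ∈ Θ := by
          obtain ⟨s, hs⟩ := h.top_not_le
          have h4 := h1'.1 (s • r)
          rw [h3' _ hs, h.comm _ e', mul_inv_cancel_right] at h4
          exact h.le h4
        rw [mul_smul, h3' m hm, smul_mul', h3 m hm, h2 e' he', mul_assoc]
      one_mem' := ⟨1, ⟨fun m => by rw [one_smul, mul_inv_cancel]; exact one_mem _, fun m _ => one_smul _ _⟩,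
        fun m _ => one_smul _ _, fun m _ => by rw [one_smul, mul_one]⟩
      inv_mem' := by
        rintro e ⟨g, h1, h2, h3⟩
        rw [h.inv_eq e]
        exact ⟨g, h1, h2, h3⟩ }
  have hET : ∀ t ∈ T, ∀ e ∈ E, t • e ∈ E := by
    rintro t ht e ⟨g, h1, h2, h3⟩
    have htr := h.fixT t ht
    have htr' : t⁻¹ • r = r := by rw [inv_smul_eq_iff, htr]
    refine ⟨t * g * t⁻¹, h.SS_conj h1 htr, fun m hm => ?_, fun m hm => ?_⟩
    · rw [mul_smul, mul_smul, h2 _ (h.smul_mem htr' hm), smul_inv_smul]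
    · rw [mul_smul, mul_smul, h3 _ (fun e => hm ((h.smul_mem_iff htr').mp e)), smul_mul', smul_inv_smul]
  have hE1 : E ≠ ⊥ := by
    obtain ⟨m, hm⟩ := h.x_ne
    have hmΘ : m ∉ Θ := fun e => hm (h.x_fix m e)
    intro hE
    have h1 : (x • m) * m⁻¹ ∈ E := by
      refine ⟨x, h.SSx, h.x_fix, fun m' hm' => ?_⟩
      have h2 : m' * m⁻¹ ∈ Θ := by
        rw [h.inv_eq, h.mul_mem_iff]
        exact iff_of_false hm' hmΘ
      have h3 := h.x_fix _ h2
      rw [smul_mul', smul_inv'] at h3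
      calc x • m' = (x • m' * (x • m)⁻¹) * (x • m) := by group
        _ = m' * m⁻¹ * (x • m) := by rw [h3]
        _ = m' * (x • m * m⁻¹) := by rw [mul_assoc, h.comm m⁻¹]
    rw [hE, mem_bot, mul_inv_eq_one] at h1
    exact hm h1
  exact h.mem_of_inv hET hE1

/-- `⋂ Θ_s = 1` -/
theorem nondeg [Finite M] {m : M} (hm : ∀ g : H, g⁻¹ • m ∈ Θ) : m = 1 := by
  let N : Subgroup M :=
    { carrier := {m | ∀ g : H, g⁻¹ • m ∈ Θ}
      mul_mem' := fun ha hb g => by rw [smul_mul']; exact mul_mem (ha g) (hb g)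
      one_mem' := fun g => by rw [smul_one]; exact one_mem _
      inv_mem' := fun ha g => by rw [smul_inv']; exact inv_mem (ha g) }
  have hN : N = ⊥ := by
    by_contra hne
    have h1 : r ∈ N := h.mem_of_inv (fun t _ e he g => by
      have := he (t⁻¹ * g)
      rwa [mul_inv_rev, inv_inv, mul_smul] at this) hne
    obtain ⟨g, hg⟩ := h.top_not_le
    have := h1 g⁻¹
    rw [inv_inv] at this
    exact hg this
  have h2 : m ∈ N := hm
  rw [hN, mem_bot] at h2
  exact h2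

/-! ### the transvections `τ_s`, `s ∈ r^H` -/

theorem symm_aux {t : H} (ht1 : ∀ m ∈ Θ, t • m = m) (ht2 : ∀ m, m ∉ Θ → t • m = m * r) {g k : H}
    (h1 : k⁻¹ • g • r ∈ Θ) : g⁻¹ • k • r ∈ Θ := by
  by_contra hn
  -- `τ = k t k⁻¹` fixes `s = g r`
  have h2 : (g⁻¹ * (k * t * k⁻¹) * g) • r = r := by
    rw [mul_smul, mul_smul, mul_smul, mul_smul, ht1 _ h1, smul_inv_smul, inv_smul_smul]
  -- `Θ_s ≤ Θ_{s'}`
  have h3 : ∀ m, g⁻¹ • m ∈ Θ → k⁻¹ • m ∈ Θ := by
    intro m hm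
    by_contra hk
    have h4 := h.smul_mem h2 hm
    rw [mul_smul, mul_smul, mul_smul, mul_smul, smul_inv_smul, ht2 _ hk, smul_mul', smul_inv_smul, smul_mul',
      h.mul_mem_iff] at h4
    exact hn (h4.mp hm)
  -- `Θ_{s'} = M`
  have hr : r ∈ Θ := h.le h.r_mem
  have h4 : ∀ m, k⁻¹ • m ∈ Θ := by
    intro m
    by_cases hm : g⁻¹ • m ∈ Θ
    · exact h3 m hm
    · have h5 : g⁻¹ • (m * k • r) ∈ Θ := by
        rw [smul_mul', h.mul_mem_iff]
        exact iff_of_false hm hn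
      have h6 := h3 _ h5
      rw [smul_mul', inv_smul_smul, h.mul_mem_iff] at h6
      exact h6.mpr hr
  obtain ⟨v, hv⟩ := h.top_not_le
  apply hv
  have := h4 (k • v • r)
  rwa [inv_smul_smul] at this

theorem main [Finite M] (g : H) (hg : SS I g) : (∀ m : M, g • m = m) ∨ ∀ m : M, g • m = x • m := by
  obtain ⟨t, ht, ht1, ht2⟩ := h.exists_tau
  have symm : ∀ g k : H, k⁻¹ • g • r ∈ Θ ↔ g⁻¹ • k • r ∈ Θ := fun g k =>
    ⟨h.symm_aux ht1 ht2, h.symm_aux ht1 ht2⟩
  have hr : r ∈ Θ := h.le h.r_mem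
  obtain ⟨k, hk⟩ := h.top_not_le
  -- the main step
  have key : ∀ g : H, SS I g → k⁻¹ • (g • k • r * (k • r)) ∉ Θ → g • k • r * (k • r) = r := by
    intro g hg hgn
    obtain ⟨e, he⟩ : ∃ e, e = g • k • r * (k • r) := ⟨_, rfl⟩
    rw [← he] at hgn ⊢
    have heI : e ∈ I := by
      have := hg.1 (k • r)
      rwa [h.inv_eq, ← he] at this
    have hs1 : (g * k) • r = e * (k • r) := by
      rw [he, mul_assoc, h.sq, mul_one, mul_smul]
    have hsn : (g * k)⁻¹ • k • r ∉ Θ := by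
      rw [symm, hs1, smul_mul', inv_smul_smul, h.mul_mem_iff]
      exact fun e => hgn (e.mpr hr)
    -- `e = l r`
    set l : H := (g * k) * t * (g * k)⁻¹ * k with hl
    have hle : l • r = e := by
      rw [hl, mul_smul, mul_smul, mul_smul, ht2 _ hsn, smul_mul', smul_inv_smul, hs1, h.comm, mul_assoc, h.sq,
        mul_one]
    -- additivity
    have hadd : ∀ m : M, l⁻¹ • m ∈ Θ ↔ (k⁻¹ • m ∈ Θ ↔ (g * k)⁻¹ • m ∈ Θ) := by
      let Q : Subgroup M :=
        { carrier := {m | l⁻¹ • m ∈ Θ ↔ (k⁻¹ • m ∈ Θ ↔ (g * k)⁻¹ • m ∈ Θ)}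
          mul_mem' := by
            intro a b ha hb
            change l⁻¹ • (a * b) ∈ Θ ↔ (k⁻¹ • (a * b) ∈ Θ ↔ (g * k)⁻¹ • (a * b) ∈ Θ)
            change l⁻¹ • a ∈ Θ ↔ (k⁻¹ • a ∈ Θ ↔ (g * k)⁻¹ • a ∈ Θ) at ha
            change l⁻¹ • b ∈ Θ ↔ (k⁻¹ • b ∈ Θ ↔ (g * k)⁻¹ • b ∈ Θ) at hb
            rw [smul_mul', smul_mul', smul_mul', h.mul_mem_iff, h.mul_mem_iff, h.mul_mem_iff]
            exact iff_aux ha hb
          one_mem' := by
            change l⁻¹ • (1 : M) ∈ Θ ↔ (k⁻¹ • (1 : M) ∈ Θ ↔ (g * k)⁻¹ • (1 : M) ∈ Θ)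
            simp only [smul_one, one_mem]
          inv_mem' := by
            intro a ha
            change l⁻¹ • a⁻¹ ∈ Θ ↔ (k⁻¹ • a⁻¹ ∈ Θ ↔ (g * k)⁻¹ • a⁻¹ ∈ Θ)
            rw [h.inv_eq]
            exact ha }
      have hQ : (⊤ : Subgroup M) ≤ Q := by
        rw [← h.gen, closure_le]
        rintro _ ⟨j, rfl⟩
        change l⁻¹ • j • r ∈ Θ ↔ (k⁻¹ • j • r ∈ Θ ↔ (g * k)⁻¹ • j • r ∈ Θ)
        rw [symm j l, symm j k, symm j (g * k), hle, hs1, smul_mul', h.mul_mem_iff]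
        exact iff_aux' _ _
      exact fun m => hQ (mem_top m)
    -- `τ_e ∈ S`
    have hI : ∀ m ∈ I, l⁻¹ • m ∈ Θ := by
      intro m hm
      rw [hadd m, mul_inv_rev, mul_smul, hg.inv.2 m hm]
    have htau1 : ∀ m, l⁻¹ • m ∈ Θ → (l * t * l⁻¹) • m = m := by
      intro m hm
      rw [mul_smul, mul_smul, ht1 _ hm, smul_inv_smul]
    have htau2 : ∀ m, l⁻¹ • m ∉ Θ → (l * t * l⁻¹) • m = m * e := by
      intro m hm
      rw [mul_smul, mul_smul, ht2 _ hm, smul_mul', smul_inv_smul, hle]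
    have htauS : SS I (l * t * l⁻¹) := by
      refine ⟨fun m => ?_, fun m hm => htau1 m (hI m hm)⟩
      by_cases hm : l⁻¹ • m ∈ Θ
      · rw [htau1 m hm, mul_inv_cancel]; exact one_mem _
      · rw [htau2 m hm, h.comm m e, mul_inv_cancel_right]; exact heI
    -- `Θ_e = Θ`
    have h1 : ∀ m, l⁻¹ • m ∈ Θ → m ∈ Θ := by
      intro m hm
      refine h.le_of_fix htauS (Θ' := Θ.comap (MulDistribMulAction.toMonoidHom M l⁻¹)) ?_ ?_ hm
      · exact fun m hm => htau1 m hm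
      · refine ⟨l • k • r, ?_⟩
        rw [htau2 _ (by rwa [inv_smul_smul])]
        intro e1
        rw [mul_eq_left] at e1
        rw [e1] at hle
        rw [smul_eq_iff_eq_inv_smul, smul_one] at hle
        exact h.r_ne hle
    have h2 : ∀ m, m ∈ Θ ↔ l⁻¹ • m ∈ Θ := by
      refine fun m => ⟨fun hm => ?_, h1 m⟩
      by_contra hn
      have h3 : l⁻¹ • (m * k • r) ∈ Θ := by
        rw [smul_mul', h.mul_mem_iff]
        exact iff_of_false hn fun e => hk (h1 _ e)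
      have h4 := h1 _ h3
      rw [h.mul_mem_iff] at h4
      exact hk (h4.mp hm)
    -- `e = r`
    have h3 : e * r = 1 := by
      refine h.nondeg fun j => ?_
      rw [smul_mul', h.mul_mem_iff, ← hle, symm l j, ← h2]
      have := symm j 1
      rwa [inv_one, one_smul, one_smul] at this
    rw [mul_eq_one_iff_eq_inv.mp h3, h.inv_eq r]
  have key2 : ∀ g : H, SS I g → k⁻¹ • (g • k • r * (k • r)) ∉ Θ → ∀ m : M, g • m = t • m := by
    intro g hg hgn
    have h1 := key g hg hgn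
    have h2 : (t⁻¹ * g) • k • r = k • r := by
      have e1 : g • k • r = r * (k • r) := by
        calc g • k • r = g • k • r * (k • r) * (k • r) := by rw [mul_assoc, h.sq, mul_one]
          _ = r * (k • r) := by rw [h1]
      rw [mul_smul, inv_smul_eq_iff, ht2 _ hk, e1, h.comm]
    have h3 := ht.inv.mul hg
    intro m
    have h4 := h.reg _ h3.1 h3.2 _ hk h2 m
    rwa [mul_smul, inv_smul_eq_iff] at h4
  have key3 : ∀ g : H, SS I g → (∀ m : M, g • m = m) ∨ ∀ m : M, g • m = t • m := by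
    intro g hg
    by_cases hgn : k⁻¹ • (g • k • r * (k • r)) ∈ Θ
    · left
      have h1 : k⁻¹ • ((g * t) • k • r * (k • r)) ∉ Θ := by
        have e : (g * t) • k • r * (k • r) = (g • k • r * (k • r)) * r := by
          rw [mul_smul, ht2 _ hk, smul_mul', hg.2 r h.r_mem, mul_assoc, mul_assoc, h.comm r]
        rw [e, smul_mul', h.mul_mem_iff]
        intro e1
        have e2 := e1.mp hgn
        have e3 := symm k 1
        rw [inv_one, one_smul, one_smul] at e3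
        exact hk (e3.mpr e2)
      intro m
      have h2 := key2 _ (hg.mul ht) h1 (t⁻¹ • m)
      rwa [mul_smul, smul_inv_smul] at h2
    · exact Or.inr (key2 g hg hgn)
  rcases key3 g hg with h1 | h1
  · exact Or.inl h1
  · right
    intro m
    rcases key3 x h.SSx with h2 | h2
    · obtain ⟨m', hm'⟩ := h.x_ne
      exact absurd (h2 m') hm'
    · rw [h1, h2]

end Trv

end Cfsg.Agent.Omega.NO3S.TwoMid.Beta
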