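import Cfsg.Agent.Omega.NO3S.TwoMid.Beta.Bt
import Cfsg.Agent.Omega.NO3S.TwoMid.Beta.Trv
import Cfsg.Agent.Omega.NO3S.TypeN.Main

/-!
# NO-3S, `|V| = 4`, TwoMid-B: (NO) implies that (D)(β) is dead (helper711 #18281, helper786 #18608), the end

* `Bt.swap` (8): `x` induces a transvection on `M_a`, (D) holds for every `v ∈ W_a` which moves `x`;
* `Bt.ss_eq` (9): `S_ra = W_x K_a`;
* `Bt.idx` (10): `|W_a : W_a ∩ W_r| = 2`;
* **`beta_dead`** (11): (NO), `(a, b)` critical with middle `r`, `x ~ b`, `f ∈ W_a` moves `x`, `W_x ∩ W_{x^f} ≤ W_b`: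
  `[W_x, W_r] ≠ 1`.
-/

set_option autoImplicit false
set_option linter.unusedSectionVars false

namespace Cfsg.Agent.Omega.NO3S.TwoMid.Beta

open Subgroup Cfsg Cfsg.Agent.ZN Cfsg.Agent.MinSimple.Geo Cfsg.Agent.Omega.CaseL Cfsg.Agent.Omega.NO3S.TwoOne
  Cfsg.Agent.Omega.NO3S.Pt
open Cfsg.Agent.Omega.NO3S.Dual (nn mem_nn DW mem_sup_of_comm)
open Cfsg.Agent.Omega.NO3S.TypeN (exists_conj_flag com_of_tyN)
open Cfsg.Agent.ZN.Block (conj_mem_of_normalizer conj_mem_of_normalizer' le_normalizer_of_forall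
  mem_normalizer_of)

universe u

variable {G : Type u} [Group G] {T V : Subgroup G} {z : G} {a b f p q r u x : G}

/-- `C` acts on `W / Y` by conjugation -/
abbrev conjM {C W Y : Subgroup G} (hW : C ≤ normalizer (W : Set G)) (hY : C ≤ normalizer (Y : Set G))
    [(Y.subgroupOf W).Normal] : MulDistribMulAction C (W ⧸ Y.subgroupOf W) :=
  let f : C → (W →* W) := fun g =>
    { toFun := fun x => ⟨(g : G) * x * (g : G)⁻¹, (mem_normalizer_iff.1 (hW g.2) x).1 x.2⟩
      map_one' := Subtype.ext (by simp)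
      map_mul' := fun x y => Subtype.ext (by
        change (g : G) * ((x : G) * y) * (g : G)⁻¹ = (g : G) * x * (g : G)⁻¹ * ((g : G) * y * (g : G)⁻¹)
        group) }
  { smul := fun g => QuotientGroup.map (Y.subgroupOf W) (Y.subgroupOf W) (f g) fun x hx =>
      (mem_normalizer_iff.1 (hY g.2) x).1 hx
    one_smul := by
      rintro ⟨x⟩
      refine congrArg (QuotientGroup.mk (s := Y.subgroupOf W)) (Subtype.ext ?_)
      change (1 : G) * (x : G) * (1 : G)⁻¹ = x
      group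
    mul_smul := by
      rintro g k ⟨x⟩
      refine congrArg (QuotientGroup.mk (s := Y.subgroupOf W)) (Subtype.ext ?_)
      change ((g : G) * k) * (x : G) * ((g : G) * k)⁻¹ = (g : G) * ((k : G) * x * (k : G)⁻¹) * (g : G)⁻¹
      group
    smul_mul := fun g x y => map_mul (QuotientGroup.map _ _ (f g) _) x y
    smul_one := fun g => map_one (QuotientGroup.map _ _ (f g) _) }

theorem mem_map_mk {W Y U : Subgroup G} (hYU : Y ≤ U) [(Y.subgroupOf W).Normal] (w : W) :
    QuotientGroup.mk' (Y.subgroupOf W) w ∈ (U.subgroupOf W).map (QuotientGroup.mk' (Y.subgroupOf W)) ↔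
      (w : G) ∈ U := by
  constructor
  · rintro ⟨v, hv, hvw⟩
    have h1 : (v : G)⁻¹ * w ∈ Y := (QuotientGroup.eq (s := Y.subgroupOf W)).mp hvw
    have h2 := mul_mem (mem_subgroupOf.mp hv) (hYU h1)
    rwa [mul_inv_cancel_left] at h2
  · exact fun hw => ⟨w, hw, rfl⟩

namespace Bt

variable [Finite G] (h : Bt T V z a r b x f)
include h

theorem inv_eq {w : G} (hw : w ∈ ws V a) : w⁻¹ = w := inv_eq_self (h.fr.ws_sq h.pr.left w hw)

/-- (8): `v, v' ∈ W_a` which move `x`: `v v'` commutes with `x` -/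
theorem mul_comm_x {v v' : G} (hv : v ∈ ws V a) (hv' : v' ∈ ws V a) (hvx : v * x ≠ x * v) (hvx' : v' * x ≠ x * v') :
    v * v' * x = x * (v * v') := by
  obtain ⟨w₀, hw, hwk, hwf⟩ := h.exists_w
  have key : ∀ v ∈ ws V a, v * x ≠ x * v → w₀ * v * w₀⁻¹ = a * v := by
    intro v hv hvx
    refine (h.fr.kq_cases' h.pr.left hwk hv).resolve_left fun e => hvx ?_
    exact h.eight hw hwk hwf hv (comm_of_conj_eq e)
  refine h.eight hw hwk hwf (mul_mem hv hv') (comm_of_conj_eq ?_)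
  have haW : a ∈ ws V a := h.fr.mem_ws_self h.pr.left
  calc w₀ * (v * v') * w₀⁻¹ = (w₀ * v * w₀⁻¹) * (w₀ * v' * w₀⁻¹) := by group
    _ = (a * v) * (a * v') := by rw [key v hv hvx, key v' hv' hvx']
    _ = (v * a) * (a * v') := by rw [h.fr.ws_comm h.pr.left a haW v hv]
    _ = v * (a * a) * v' := by group
    _ = v * v' := by rw [h.aa, mul_one]

theorem fx_ne : f * x ≠ x * f := fun e => h.xf (by rw [e, mul_inv_cancel_right])

/-- (8): `(D)` holds for all `v ∈ W_a` which move `x` -/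
theorem swap {v : G} (hv : v ∈ ws V a) (hvx : v * x ≠ x * v) : Bt T V z a r b x v := by
  have h1 := h.mul_comm_x h.fm hv h.fx_ne hvx
  have e : v * x * v⁻¹ = f * x * f⁻¹ := by
    have hff : f * f = 1 := h.fr.ws_sq h.pr.left f h.fm
    have e1 : v = f * (f * v) := by rw [← mul_assoc, hff, one_mul]
    calc v * x * v⁻¹ = f * (f * v) * x * (f * (f * v))⁻¹ := by rw [← e1]
      _ = f * ((f * v) * x * (f * v)⁻¹) * f⁻¹ := by group
      _ = f * x * f⁻¹ := by rw [h1, mul_inv_cancel_right]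
  exact
    { h.toMid with
      bx := h.bx
      fm := hv
      xf := fun e' => hvx (comm_of_conj_eq e')
      D := by rw [e]; exact h.D
      com := h.com
      no := h.no }

/-- `W_x ≤ S` -/
theorem ws_le_ss : ws V x ≤ ss h.fr h.pr := by
  intro y hy
  refine ⟨h.xa y hy, fun w hw => h.six' hw hy, fun w hw => ?_⟩
  rw [h.com y hy w hw.2, mul_inv_cancel_right, mul_inv_cancel]
  exact one_mem _

/-- (9) `S = W_x K_a` -/
theorem ss_le {g : G} (hg : Sg V a r g) : ∃ y ∈ ws V x, ∃ k ∈ kq V a, g = y * k := by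
  set S := ss h.fr h.pr with hS
  have hno : NoOv V a S := h.no a r h.pr h.ne_pr S S (rad_ss h.fr h.pr) le_rfl fun g hg => sq_mem_kq h.fr h.pr hg
  have hno' : (S ⊓ kq V a).relIndex S ≤ (cmod V a S).relIndex (ws V a) := hno
  have hI : ws V a ⊓ ws V r ≤ cmod V a S := by
    intro w hw
    rw [mem_cmod h.fr h.pr.left]
    exact ⟨hw.1, fun y hy => hy.2.2 w hw⟩
  have h1 : (cmod V a S).relIndex (ws V a) ≤ (ws V a ⊓ ws V r).relIndex (ws V a) :=
    Nat.le_of_dvd (Nat.pos_of_ne_zero index_ne_zero_of_finite) (relIndex_dvd_of_le_left _ hI)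
  rw [← h.one.2.2.1, inf_relIndex_left] at h1
  rw [inf_relIndex_left] at hno'
  have hWS : ws V x ⊔ kq V a ≤ S := sup_le h.ws_le_ss (kq_le_ss h.fr h.pr)
  have h2 : (kq V a).relIndex (ws V x) ≤ (kq V a).relIndex (ws V x ⊔ kq V a) :=
    relIndex_le_of_le_right le_sup_left index_ne_zero_of_finite
  have h3 := relIndex_mul_relIndex _ _ _ (le_sup_right : kq V a ≤ ws V x ⊔ kq V a) hWS
  have p1 : 0 < (kq V a).relIndex (ws V x ⊔ kq V a) := Nat.pos_of_ne_zero index_ne_zero_of_finite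
  have h4 : (ws V x ⊔ kq V a).relIndex S = 1 := by
    have p2 : 0 < (ws V x ⊔ kq V a).relIndex S := Nat.pos_of_ne_zero index_ne_zero_of_finite
    have h5 : (kq V a).relIndex (ws V x ⊔ kq V a) * (ws V x ⊔ kq V a).relIndex S ≤
        (kq V a).relIndex (ws V x ⊔ kq V a) * 1 := by
      rw [mul_one, h3]
      exact (hno'.trans h1).trans h2
    have := Nat.le_of_mul_le_mul_left h5 p1
    omega
  have h5 : g ∈ ws V x ⊔ kq V a := relIndex_eq_one.mp h4 hg
  have hn : ws V x ≤ normalizer ((kq V a : Subgroup G) : Set G) := fun y hy =>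
    centralizer_le_normalizer_kq V a (mem_centralizer_singleton_iff.mpr (h.xa y hy))
  have h6 : g ∈ ((ws V x ⊔ kq V a : Subgroup G) : Set G) := h5
  rw [coe_mul_of_left_le_normalizer_right _ _ hn] at h6
  obtain ⟨y, hy, k, hk, e⟩ := Set.mem_mul.mp h6
  exact ⟨y, hy, k, hk, e.symm⟩

/-- (9): vectors moved by `x` are regular for `S` -/
theorem regular {g v : G} (hg : Sg V a r g) (hv : v ∈ ws V a) (hvx : v * x ≠ x * v)
    (hgv : g * v * g⁻¹ * v⁻¹ ∈ zpowers a) : g ∈ kq V a := by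
  obtain ⟨y, hy, k, hk, rfl⟩ := h.ss_le hg
  have h1 : y * v * y⁻¹ * v⁻¹ ∈ zpowers a := by
    have e : y * k * v * (y * k)⁻¹ * v⁻¹ = (y * (k * v * k⁻¹ * v⁻¹) * y⁻¹) * (y * v * y⁻¹ * v⁻¹) := by group
    rw [e, TyN.zc (mem_centralizer_singleton_iff.mpr (h.xa y hy)) (kq_comm hk hv)] at hgv
    exact (Subgroup.mul_mem_cancel_left _ (kq_comm hk hv)).mp hgv
  exact mul_mem ((h.swap hv hvx).one.2.1 y hy h1) hk

theorem theta_idx : (ws V a ⊓ centralizer ({x} : Set G)).relIndex (ws V a) = 2 := by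
  refine relIndex_eq_two_iff.mpr ⟨f, h.fm, fun v hv => ?_⟩
  by_cases hvx : v * x = x * v
  · refine Or.inr ⟨⟨hv, mem_centralizer_singleton_iff.mpr hvx⟩, fun h1 => h.fx_ne ?_⟩
    have h2 := mem_centralizer_singleton_iff.mp h1.2
    have h3 := mul_comm_of (inv_comm_of hvx) h2
    rwa [inv_mul_cancel_left] at h3
  · exact Or.inl ⟨⟨mul_mem hv h.fm, mem_centralizer_singleton_iff.mpr (h.mul_comm_x hv h.fm hvx h.fx_ne)⟩,
      fun h1 => hvx (mem_centralizer_singleton_iff.mp h1.2)⟩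

/-- **(10)** `|W_a : W_a ∩ W_r| = 2` -/
theorem idx : (ws V a ⊓ ws V r).relIndex (ws V a) = 2 := by
  obtain ⟨g, k, ha, hr, -, -, hf⟩ := h.flag
  set C := centralizer ({a} : Set G) with hC
  set W := ws V a with hW
  set Y := zpowers a with hY
  have haW : a ∈ W := h.fr.mem_ws_self h.pr.left
  have hrW : r ∈ W := h.fr.mem_ws_of_col h.pr
  have har : a ∈ ws V r := h.fr.mem_ws_of_col h.pr.symm
  have hYW : Y ≤ W := zpowers_le.mpr haW
  have nW : C ≤ normalizer (W : Set G) := centralizer_le_normalizer_ws V a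
  have nY : C ≤ normalizer (Y : Set G) := zpowers_norm le_rfl
  have hWC : W ≤ C := h.fr.ws_le_cent h.pr.left
  have hN : (Y.subgroupOf W).Normal := normal_subgroupOf_of_le_normalizer (hWC.trans nY)
  let _ := conjM nW nY
  set M := W ⧸ Y.subgroupOf W with hM
  let mk : W →* M := QuotientGroup.mk' (Y.subgroupOf W)
  have hmk : Function.Surjective mk := QuotientGroup.mk'_surjective _
  have hsm : ∀ (g : C) (w : W) (hx : (g : G) * w * (g : G)⁻¹ ∈ W), g • mk w = mk ⟨(g : G) * w * (g : G)⁻¹, hx⟩ :=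
    fun _ _ _ => rfl
  have hmem : ∀ (g : C) (w : W), (g : G) * w * (g : G)⁻¹ ∈ W := fun g w =>
    (mem_normalizer_iff.1 (nW g.2) w).1 w.2
  have hone : ∀ v w : W, mk v = mk w ↔ (v : G) * (w : G)⁻¹ ∈ Y := by
    intro v w
    rw [← mul_inv_eq_one, ← map_inv, ← map_mul, ← MonoidHom.mem_ker, QuotientGroup.ker_mk']
    exact Iff.rfl
  have hfix : ∀ (g : C) (w : W), g • mk w = mk w ↔ (g : G) * w * (g : G)⁻¹ * (w : G)⁻¹ ∈ Y := by
    intro g w
    rw [hsm g w (hmem g w), hone]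
  have hcm : ∀ (g : C) (w : W), (g • mk w) * (mk w)⁻¹ =
      mk ⟨(g : G) * w * (g : G)⁻¹ * (w : G)⁻¹, W.mul_mem (hmem g w) (W.inv_mem w.2)⟩ := by
    intro g w
    rw [hsm g w (hmem g w), ← map_inv, ← map_mul]
    rfl
  -- the subgroups
  set I' : Subgroup M := ((W ⊓ ws V r).subgroupOf W).map mk with hI'
  set Θ' : Subgroup M := ((W ⊓ C ⊓ centralizer ({x} : Set G)).subgroupOf W).map mk with hΘ'
  have hYI : Y ≤ W ⊓ ws V r := zpowers_le.mpr ⟨haW, har⟩
  have hax : a ∈ centralizer ({x} : Set G) := mem_centralizer_singleton_iff.mpr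
    (h.xa x (h.fr.mem_ws_self h.bx.right)).symm
  have hYΘ : Y ≤ W ⊓ C ⊓ centralizer ({x} : Set G) := zpowers_le.mpr ⟨⟨haW, hWC haW⟩, hax⟩
  have memI : ∀ w : W, mk w ∈ I' ↔ (w : G) ∈ W ⊓ ws V r := mem_map_mk hYI
  have memΘ : ∀ w : W, mk w ∈ Θ' ↔ (w : G) * x = x * w := by
    intro w
    rw [show mk w ∈ Θ' ↔ (w : G) ∈ W ⊓ C ⊓ centralizer ({x} : Set G) from mem_map_mk hYΘ w, mem_inf,
      mem_centralizer_singleton_iff]
    exact ⟨fun h => h.2, fun e => ⟨⟨w.2, hWC w.2⟩, e⟩⟩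
  have hxC : x ∈ C := mem_centralizer_singleton_iff.mpr (h.xa x (h.fr.mem_ws_self h.bx.right))
  have hxS := h.ws_le_ss (h.fr.mem_ws_self h.bx.right)
  have hkT : cj k T ≤ C := hf.ln.T_le
  have hr1 : r ≠ 1 := h.pr.symm.ne_one
  -- the lemma
  have key : Trv C M (mk ⟨r, hrW⟩) ((cj k T).subgroupOf C) I' Θ' ⟨x, hxC⟩ := by
    refine ⟨?_, ?_, ?_, ?_, ?_, ?_, ?_, ?_, ?_, ?_, ?_, ?_, ?_, ?_⟩
    · intro v w
      obtain ⟨v, rfl⟩ := hmk v
      obtain ⟨w, rfl⟩ := hmk w
      rw [← map_mul, ← map_mul]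
      exact congrArg mk (Subtype.ext (h.fr.ws_comm h.pr.left v v.2 w w.2))
    · intro v
      obtain ⟨v, rfl⟩ := hmk v
      rw [← map_mul, ← map_one mk]
      exact congrArg mk (Subtype.ext (h.fr.ws_sq h.pr.left v v.2))
    · exact hf.ln.two.comap_of_injective _ C.subtype_injective
    · intro t ht
      rw [hfix]
      have htC : (t : G) * a = a * t := mem_centralizer_singleton_iff.mp t.2
      rcases hf.ln.conj_cases ha hr h.pr.ne_one htC (hf.ln.T_norm ht) with e | e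
      · change (t : G) * r * (t : G)⁻¹ * r⁻¹ ∈ Y
        rw [e, mul_inv_cancel]
        exact one_mem _
      · change (t : G) * r * (t : G)⁻¹ * r⁻¹ ∈ Y
        rw [e, mul_inv_cancel_right]
        exact mem_zpowers a
    · intro m hm
      obtain ⟨w, rfl⟩ := hmk m
      have h1 := h.fix ha hr hf w.2 fun t ht => (hfix ⟨t, hkT ht⟩ w).mp (hm ⟨t, hkT ht⟩ ht)
      rcases hf.ln.four ha hr h.pr.ne_one hr1 h.ne_pr h1 with e | e | e | e
      · left
        rw [← map_one mk, hone, e]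
        simp
      · left
        rw [← map_one mk, hone, e]
        change a * (1 : G)⁻¹ ∈ Y
        rw [inv_one, mul_one]
        exact mem_zpowers a
      · right
        rw [hone, e, mul_inv_cancel]
        exact one_mem _
      · right
        rw [hone, e, mul_inv_cancel_right]
        exact mem_zpowers a
    · rw [eq_top_iff]
      intro m _
      obtain ⟨w, rfl⟩ := hmk m
      -- the subgroup of the elements of `W_a` whose image lies in the span
      set U : Subgroup G := ((closure (Set.range fun h : C => h • mk ⟨r, hrW⟩)).comap mk).map W.subtype with hU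
      have hUmem : ∀ w : W, (w : G) ∈ U ↔ mk w ∈ closure (Set.range fun h : C => h • mk ⟨r, hrW⟩) := by
        intro w
        constructor
        · rintro ⟨y, hy, hyx⟩
          rw [← (Subtype.ext hyx : y = w)]
          exact hy
        · exact fun hx => ⟨w, hx, rfl⟩
      have h1 : W ≤ U := by
        refine ws_le fun L hL v hv => ?_
        by_cases hv1 : v = 1
        · rw [hv1]; exact one_mem _
        obtain ⟨⟨c, rfl⟩, hca⟩ := hL
        have hcol : Col V a v := ⟨c, hca, hv, h.pr.ne_one, hv1⟩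
        have hvW : v ∈ W := h.fr.mem_ws_of_col hcol
        by_cases hva : v = a
        · refine (hUmem ⟨v, hvW⟩).mpr ?_
          have e : mk ⟨v, hvW⟩ = 1 := by
            rw [← map_one mk, hone]
            change v * (1 : G)⁻¹ ∈ Y
            rw [inv_one, mul_one, hva]
            exact mem_zpowers a
          rw [e]
          exact one_mem _
        · obtain ⟨c, hc1, hc2⟩ := exists_conj_flag h.fr h.pr (Ne.symm h.ne_pr) hcol hva
          have hcC : c ∈ C := mem_centralizer_singleton_iff.mpr (comm_of_conj_eq hc1)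
          refine (hUmem ⟨v, hvW⟩).mpr (subset_closure ⟨⟨c, hcC⟩, ?_⟩)
          change (⟨c, hcC⟩ : C) • mk ⟨r, hrW⟩ = _
          rw [hsm ⟨c, hcC⟩ ⟨r, hrW⟩ (hmem ⟨c, hcC⟩ ⟨r, hrW⟩)]
          exact congrArg mk (Subtype.ext hc2)
      exact (hUmem w).mp (h1 w.2)
    · intro g hg m hm
      obtain ⟨w, rfl⟩ := hmk m
      rw [hfix] at hg
      change (g : G) * r * (g : G)⁻¹ * r⁻¹ ∈ Y at hg
      rw [memI] at hm
      rw [hsm g w (hmem g w), memI]
      have hga : (g : G) * a = a * g := mem_centralizer_singleton_iff.mp g.2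
      have h1 : (g : G) * w * (g : G)⁻¹ ∈ ws V a ⊓ ws V ((g : G) * r * (g : G)⁻¹) :=
        ⟨hmem g w, conj_mem_ws (g : G) hm.2⟩
      rcases (mem_zpowers_iff_of_mul_self h.aa).mp hg with e | e
      · rw [mul_inv_eq_one] at e
        rwa [e] at h1
      · have e' : (g : G) * r * (g : G)⁻¹ = a * r := by
          calc (g : G) * r * (g : G)⁻¹ = ((g : G) * r * (g : G)⁻¹ * r⁻¹) * r := by group
            _ = a * r := by rw [e]
        rw [e'] at h1
        refine ⟨h1.1, ?_⟩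
        have h2 : a * r ≠ a := fun e => hr1 (by simpa using e)
        have h3 : a * r ≠ 1 := hf.mul_ne_one hr h.ne_pr
        have h4 := (mem_ii_iff h.fr ha (mul_mem ha hr) h.pr.ne_one h3 (Ne.symm h2)).mp h1
        exact ((mem_ii_iff h.fr ha hr h.pr.ne_one hr1 h.ne_pr).mpr h4).2
    · rw [memI]
      exact ⟨hrW, h.fr.mem_ws_self h.pr.right⟩
    · intro m hm
      obtain ⟨w, rfl⟩ := hmk m
      rw [memI] at hm
      rw [memΘ]
      exact (h.com x (h.fr.mem_ws_self h.bx.right) w hm.2).symm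
    · rw [hΘ', index_map_eq _ hmk]
      · change (W ⊓ C ⊓ centralizer ({x} : Set G)).relIndex W = 2
        rw [inf_eq_left.mpr hWC]
        exact h.theta_idx
      · intro w hw
        rw [QuotientGroup.ker_mk'] at hw
        exact hYΘ hw
    · intro g hg1 hg2 v hv hgv m
      obtain ⟨v, rfl⟩ := hmk v
      rw [memΘ] at hv
      rw [hfix] at hgv
      have hga : (g : G) * a = a * g := mem_centralizer_singleton_iff.mp g.2
      have hgS : Sg V a r g := by
        refine ⟨hga, fun w hw => ?_, fun w hw => ?_⟩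
        · have h1 := hg1 (mk ⟨w, hw⟩)
          rw [hcm, memI] at h1
          exact h1
        · have h1 := hg2 (mk ⟨w, hw.1⟩) ((memI ⟨w, hw.1⟩).mpr hw)
          rw [hfix] at h1
          exact h1
      have h1 := h.regular hgS v.2 hv hgv
      obtain ⟨w, rfl⟩ := hmk m
      rw [hfix]
      exact kq_comm h1 w.2
    · refine ⟨mk ⟨f, h.fm⟩, fun e => ?_⟩
      rw [hfix] at e
      change x * f * x⁻¹ * f⁻¹ ∈ Y at e
      have h1 := h.one.2.1 x (h.fr.mem_ws_self h.bx.right) e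
      have h2 := (mem_centralizer_iff.mp (h.cent_of_kq h.x_mem_b h1)) f h.fm
      exact h.fx_ne h2
    · intro m
      obtain ⟨w, rfl⟩ := hmk m
      rw [hcm, memI]
      exact hxS.2.1 w w.2
    · intro m hm
      obtain ⟨w, rfl⟩ := hmk m
      rw [memΘ] at hm
      rw [hfix]
      change x * w * x⁻¹ * (w : G)⁻¹ ∈ Y
      rw [← hm, mul_inv_cancel_right, mul_inv_cancel]
      exact one_mem _
  -- every element of `W_x` lies in `K_a ∪ x K_a`
  have h1 : ∀ y ∈ ws V x, y ∈ kq V a ∨ y * x⁻¹ ∈ kq V a := by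
    intro y hy
    have hyC : y ∈ C := mem_centralizer_singleton_iff.mpr (h.xa y hy)
    have hyS := h.ws_le_ss hy
    have hyS' : Trv.SS I' (⟨y, hyC⟩ : C) := by
      refine ⟨fun m => ?_, fun m hm => ?_⟩
      · obtain ⟨w, rfl⟩ := hmk m
        rw [hcm, memI]
        exact hyS.2.1 w w.2
      · obtain ⟨w, rfl⟩ := hmk m
        rw [memI] at hm
        rw [hfix]
        exact hyS.2.2 w hm
    rcases key.main _ hyS' with e | e
    · left
      refine mem_kq_of h.fr h.pr.left (h.xa y hy) fun w hw => ?_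
      exact (hfix ⟨y, hyC⟩ ⟨w, hw⟩).mp (e _)
    · right
      have hxx : x⁻¹ * a = a * x⁻¹ := inv_comm_of (h.xa x (h.fr.mem_ws_self h.bx.right))
      refine mem_kq_of h.fr h.pr.left (mul_comm_of (h.xa y hy) hxx) fun w hw => ?_
      have h2 : (⟨y, hyC⟩ * (⟨x, hxC⟩ : C)⁻¹ : C) • mk ⟨w, hw⟩ = mk ⟨w, hw⟩ := by
        rw [mul_smul, e, smul_inv_smul]
      exact (hfix _ ⟨w, hw⟩).mp h2
  rw [← h.one.2.2.1]
  have hxW : x ∈ ws V x := h.fr.mem_ws_self h.bx.right
  have hxK : x ∉ kq V a := by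
    intro e
    exact h.fx_ne ((mem_centralizer_iff.mp (h.cent_of_kq h.x_mem_b e)) f h.fm)
  have hxi : x⁻¹ = x := inv_eq_self (h.fr.pt_sq h.bx.right)
  refine relIndex_eq_two_iff.mpr ⟨x, hxW, fun y hy => ?_⟩
  rcases h1 y hy with e | e
  · refine Or.inr ⟨⟨hy, e⟩, fun h2 => hxK ?_⟩
    have := mul_mem (inv_mem e) h2.2
    rwa [inv_mul_cancel_left] at this
  · rw [hxi] at e
    refine Or.inl ⟨⟨mul_mem hy hxW, e⟩, fun h2 => hxK ?_⟩
    have := mul_mem (inv_mem (mem_inf.mp h2).2) e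
    rwa [inv_mul_cancel_left] at this

end Bt

/-- (11) `|W_p : W_p ∩ W_q| = 2` implies TYPE N -/
theorem tyN_of_idx [Finite G] (h : Two T V z) (nb : NB V)
    (hi : ∀ p q : G, Col V p q → p ≠ q → (ws V p ⊓ ws V q).relIndex (ws V p) = 2) : TyN T V z := by
  refine { h with n := ?_ }
  intro p m q hpm hmq y hy w hw
  by_cases hcom : Com V p q
  · rw [hcom y hy w hw, mul_inv_cancel_right, mul_inv_cancel]
    exact one_mem _
  have hM : Mid T V z p m q := { h with pr := hpm, rq := hmq, ne := hcom }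
  -- products of elements outside `W_m`
  have hP : ∀ {p q : G}, Mid T V z p m q → ∀ y ∈ ws V p, ∀ y' ∈ ws V p, y ∉ ws V m → y' ∉ ws V m →
      y * y' ∈ ws V m := by
    intro p q hM y hy y' hy' hn hn'
    obtain ⟨s, hs, hs2⟩ := relIndex_eq_two_iff.mp (hi p m hM.pr hM.ne_pr)
    have h1 := hs2 y hy
    have h2 := hs2 y'⁻¹ (inv_mem hy')
    rcases h1 with ⟨h1, -⟩ | ⟨h1, -⟩
    · rcases h2 with ⟨h2, -⟩ | ⟨h2, -⟩
      · have h3 := mul_mem (mem_inf.mp h1).2 (inv_mem (mem_inf.mp h2).2)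
        have e : y * s * (y'⁻¹ * s)⁻¹ = y * y' := by group
        rwa [e] at h3
      · exact absurd ((inv_mem_iff (H := ws V m)).mp (mem_inf.mp h2).2) hn'
    · exact absurd (mem_inf.mp h1).2 hn
  have hc1 : ∀ y ∈ ws V m, ∀ w ∈ ws V q, y * w = w * y := fun y hy w hw => h.com hM.rq y hy w hw
  have hc2 : ∀ y ∈ ws V p, ∀ w ∈ ws V m, y * w = w * y := fun y hy w hw => h.com hM.pr y hy w hw
  have hin : rr V p q ≤ ws V m := by
    refine (closure_le _).mpr ?_
    rintro _ ⟨y, hy, w, hw, rfl⟩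
    by_contra hn
    have hd := mem_inf.mp (hM.comm_mem hy hw)
    have hyn : y ∉ ws V m := by
      intro e
      apply hn
      change y * w * y⁻¹ * w⁻¹ ∈ ws V m
      rw [hc1 y e w hw, mul_inv_cancel_right, mul_inv_cancel]
      exact one_mem _
    have h1 := hP hM _ hd.1 y hy hn hyn
    have h2 := hc1 _ h1 w hw
    have h3 := h.fr.ws_comm hmq.right _ hd.2 w hw
    have h4 : y * w = w * y := by
      have h5 := mul_comm_of (inv_comm_of h3) h2
      rwa [inv_mul_cancel_left] at h5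
    apply hn
    change y * w * y⁻¹ * w⁻¹ ∈ ws V m
    rw [h4, mul_inv_cancel_right, mul_inv_cancel]
    exact one_mem _
  have hmem := hM.mem_of_inner nb hin
  -- all nontrivial commutators are equal
  have heq : ∀ y ∈ ws V p, ∀ w ∈ ws V q, ∀ y' ∈ ws V p, ∀ w' ∈ ws V q, y * w ≠ w * y → y' * w' ≠ w' * y' →
      y * w * y⁻¹ * w⁻¹ = y' * w' * y'⁻¹ * w'⁻¹ := by
    intro y hy w hw y' hy' w' hw' hne hne'
    have h1 := hP hM y⁻¹ (inv_mem hy) y' hy' (fun e => hne (hc1 y ((inv_mem_iff (H := ws V m)).mp e) w hw))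
      (fun e => hne' (hc1 y' e w' hw'))
    have h2 := hP hM.symm w⁻¹ (inv_mem hw) w' hw' (fun e => hne (hc2 y hy w ((inv_mem_iff (H := ws V m)).mp e)))
      (fun e => hne' (hc2 y' hy' w' e))
    have e1 : y' = y * (y⁻¹ * y') := by group
    have e2 : w' = w * (w⁻¹ * w') := by group
    set i := y⁻¹ * y' with hi'
    set j := w⁻¹ * w' with hj'
    have a1 : i * w' = w' * i := hc1 i h1 w' hw'
    have a2 : j * y⁻¹ = y⁻¹ * j := (hc2 _ (inv_mem hy) j h2).symm
    have a3 : i * w' * i⁻¹ = w' := by rw [a1, mul_inv_cancel_right]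
    have a4 : j * y⁻¹ * j⁻¹ = y⁻¹ := by rw [a2, mul_inv_cancel_right]
    symm
    calc y' * w' * y'⁻¹ * w'⁻¹ = y * (i * w' * i⁻¹) * y⁻¹ * w'⁻¹ := by rw [e1]; group
      _ = y * (w * j) * y⁻¹ * (w * j)⁻¹ := by rw [a3, e2]
      _ = y * w * (j * y⁻¹ * j⁻¹) * w⁻¹ := by group
      _ = y * w * y⁻¹ * w⁻¹ := by rw [a4]
  by_cases hyw : y * w = w * y
  · rw [hyw, mul_inv_cancel_right, mul_inv_cancel]
    exact one_mem _
  set d := y * w * y⁻¹ * w⁻¹ with hd
  have hdd : d * d = 1 := h.fr.ws_sq hpm.left d (mem_inf.mp (hM.comm_mem hy hw)).1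
  have hle : rr V p q ≤ zpowers d := by
    refine (closure_le _).mpr ?_
    rintro _ ⟨y', hy', w', hw', rfl⟩
    change y' * w' * y'⁻¹ * w'⁻¹ ∈ zpowers d
    by_cases hyw' : y' * w' = w' * y'
    · rw [hyw', mul_inv_cancel_right, mul_inv_cancel]
      exact one_mem _
    · rw [← heq y hy w hw y' hy' w' hw' hyw hyw']
      exact mem_zpowers d
  rcases (mem_zpowers_iff_of_mul_self hdd).mp (hle hmem) with e | e
  · exact absurd e hmq.ne_one
  · rw [e]
    exact mem_zpowers d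

/-- **(NO) implies that (D)(β) is dead** (helper711 #18281) -/
theorem beta_dead [Finite G] (hNO : NO V) (h : Mid T V z a r b) (hbx : Col V b x) (hf : f ∈ ws V a)
    (hxf : f * x * f⁻¹ ≠ x) (hD : ws V x ⊓ ws V (f * x * f⁻¹) ≤ ws V b) : ¬ Com V x r := by
  intro hcom
  have hB : Bt T V z a r b x f := { h with bx := hbx, fm := hf, xf := hxf, D := hD, com := hcom, no := hNO }
  have h1 : ∀ p q : G, Col V p q → p ≠ q → (ws V p ⊓ ws V q).relIndex (ws V p) = 2 := by
    intro p q hpq hne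
    have h2 := relIndex_const h.fr hpq.symm hne h.pr.symm h.ne_pr
    rw [inf_comm (ws V q), inf_comm (ws V r)] at h2
    rw [h2]
    exact hB.idx
  exact h.ne (com_of_tyN (tyN_of_idx h.toTwo hB.nb h1) h.pr h.rq)

end Cfsg.Agent.Omega.NO3S.TwoMid.Beta
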