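import Cfsg.Agent.Omega.NO3S.TwoMid.CubU

/-!
# NO-3S, `|V| = 4`, TwoMid-B: (NO), "no over-offender in `O₂(C_{H_a}(r̄))` on `M_a`", for subgroups of `G`

* `Rad V a r Q` : `Q ≤ C(a)` is a 2-group modulo `K_a`, fixes `r` modulo `a`, is normalised by `C(a) ∩ C(r)`;
* `NO V` : for `a ~ r`, `Rad V a r Q`, `A ≤ Q`, `A` elementary abelian modulo `K_a`: `NoOv V a A`;
* `rad_o2` : `Rad V a r (O₂(C_G(W_r)))`; `ws_le_o2_cent` : `W_x ≤ O₂(C_G(W_r))` if `[W_x, W_r] = 1`, `x ~ b ~ r`;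
* `ss V a r` : `{g ∈ C(a) : [W_a, g] ≤ W_a ∩ W_r, [W_a ∩ W_r, g] ≤ ⟨a⟩}`, `rad_ss`.
-/

set_option autoImplicit false
set_option linter.unusedSectionVars false

namespace Cfsg.Agent.Omega.NO3S.TwoMid.Beta

open Subgroup Cfsg Cfsg.Agent.ZN Cfsg.Agent.MinSimple.Geo Cfsg.Agent.Omega.CaseL Cfsg.Agent.Omega.NO3S.TwoOne
  Cfsg.Agent.Omega.NO3S.Pt
open Cfsg.Agent.Omega.NO3S.TypeN (exists_conj_flag)
open Cfsg.Agent.ZN.Block (conj_mem_of_normalizer conj_mem_of_normalizer' le_normalizer_of_forall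
  mem_normalizer_of)

universe u

variable {G : Type u} [Group G]

/-- `Q ≤ C(a)` is a 2-group modulo `K_a`, fixes `r` modulo `a`, and is normalised by `C(a) ∩ C(r)`. -/
structure Rad (V : Subgroup G) (a r : G) (Q : Subgroup G) : Prop where
  le : Q ≤ centralizer ({a} : Set G)
  two : ∀ q ∈ Q, ∃ n : ℕ, q ^ 2 ^ n ∈ kq V a
  fix : ∀ q ∈ Q, q * r * q⁻¹ * r⁻¹ ∈ zpowers a
  nrm : ∀ g : G, g * a = a * g → g * r = r * g → ∀ q ∈ Q, g * q * g⁻¹ ∈ Q

/-- **(NO)** : no over-offender in `O₂(C_{H_a}(r̄))` on `M_a` -/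
def NO (V : Subgroup G) : Prop := ∀ a r : G, Col V a r → a ≠ r → ∀ Q A : Subgroup G, Rad V a r Q → A ≤ Q →
  (∀ x ∈ A, x * x ∈ kq V a) → NoOv V a A

variable {T V : Subgroup G} {z : G} {a b r x : G}

theorem mem_kq_of (h : Fr T V z) (ha : Col V a a) {g : G} (hga : g * a = a * g)
    (hg : ∀ w ∈ ws V a, g * w * g⁻¹ * w⁻¹ ∈ zpowers a) : g ∈ kq V a := by
  refine ⟨mem_centralizer_singleton_iff.mpr hga, hg, fun w hw => ?_⟩
  have haa := h.pt_sq ha
  rcases (mem_zpowers_iff_of_mul_self haa).mp (hg w hw) with e | e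
  · have e1 : g * w * g⁻¹ = w := by rwa [mul_inv_eq_one] at e
    have e2 : g⁻¹ * w * g = w := by
      calc g⁻¹ * w * g = g⁻¹ * (g * w * g⁻¹) * g := by rw [e1]
        _ = w := by group
    rw [e2, mul_inv_cancel]
    exact one_mem _
  · have e1 : g * w * g⁻¹ = a * w := by
      calc g * w * g⁻¹ = (g * w * g⁻¹ * w⁻¹) * w := by group
        _ = a * w := by rw [e]
    have e3 : g⁻¹ * a * g = a := by rw [mul_assoc, ← hga, inv_mul_cancel_left]
    have e2 : g⁻¹ * w * g = a * w := by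
      have e4 : a * (g⁻¹ * w * g) = w := by
        calc a * (g⁻¹ * w * g) = (g⁻¹ * a * g) * (g⁻¹ * w * g) := by rw [e3]
          _ = g⁻¹ * (a * w) * g := by group
          _ = w := by rw [← e1]; group
      calc g⁻¹ * w * g = a * a * (g⁻¹ * w * g) := by rw [haa, one_mul]
        _ = a * w := by rw [mul_assoc, e4]
    rw [e2, mul_inv_cancel_right]
    exact mem_zpowers a

/-- `O₂(C_G(W_r))` -/
theorem rad_o2 [Finite G] (h : Fr T V z) (har : Col V a r) : Rad V a r (o2 (centralizer (ws V r : Set G))) where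
  le := (o2_le _).trans fun c hc => by
    rw [mem_centralizer_singleton_iff]
    exact (mem_centralizer_iff.mp hc a (h.mem_ws_of_col har.symm)).symm
  two := by
    intro q hq
    obtain ⟨n, hn⟩ := isPGroup_o2 (centralizer (ws V r : Set G)) ⟨q, hq⟩
    refine ⟨n, ?_⟩
    have : q ^ 2 ^ n = 1 := congrArg Subtype.val hn
    rw [this]
    exact one_mem _
  fix := by
    intro q hq
    rw [← mem_centralizer_iff.mp (o2_le _ hq) r (h.mem_ws_self har.right), mul_inv_cancel_right, mul_inv_cancel]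
    exact one_mem _
  nrm := by
    intro g _ hgr q hq
    exact conj_mem_of_normalizer (((centralizer_le_normalizer_ws V r).trans
      (normalizer_le_normalizer_centralizer _)).trans (normalizer_le_normalizer_o2 _))
      (mem_centralizer_singleton_iff.mpr hgr) hq

/-- `W_x ≤ O₂(C_G(W_r))` if `x ~ b ~ r`, `[W_x, W_r] = 1` -/
theorem ws_le_o2_cent [Finite G] (h : Two T V z) (hbx : Col V b x) (hbr : Col V b r) (hcom : Com V x r) :
    ws V x ≤ o2 (centralizer (ws V r : Set G)) := by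
  have h5 : centralizer (ws V r : Set G) ≤ centralizer ({b} : Set G) := h.cent_ws_le hbr.symm
  have h6 : ws V x ≤ centralizer (ws V r : Set G) := by
    intro a ha
    rw [mem_centralizer_iff]
    intro b hb
    exact (hcom a ha b hb).symm
  refine le_trans (le_inf (h.ws_le_o2 hbx.symm) h6)
    (le_o2 inf_le_right ((isPGroup_o2 _).to_le inf_le_left) ?_)
  refine le_normalizer_of_forall fun c hc a ha => ?_
  exact ⟨conj_mem_of_normalizer (le_normalizer_o2 _) (h5 hc) ha.1, conj_mem_cent hc ha.2⟩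

/-- `{g ∈ C(a) : [W_a, g] ≤ W_a ∩ W_r, [W_a ∩ W_r, g] ≤ ⟨a⟩}` -/
def Sg (V : Subgroup G) (a r g : G) : Prop := g * a = a * g ∧
  (∀ w ∈ ws V a, g * w * g⁻¹ * w⁻¹ ∈ ws V a ⊓ ws V r) ∧ ∀ w ∈ ws V a ⊓ ws V r, g * w * g⁻¹ * w⁻¹ ∈ zpowers a

/-- the subgroup of the `g` with `Sg V a r g` -/
def ss (h : Fr T V z) (har : Col V a r) : Subgroup G where
  carrier := {g | Sg V a r g}
  mul_mem' := by
    rintro g k ⟨hg1, hg2, hg3⟩ ⟨hk1, hk2, hk3⟩
    have hwa : ∀ g w : G, g * a = a * g → w ∈ ws V a → g * w * g⁻¹ ∈ ws V a := fun g w hg hw =>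
      conj_mem_of_normalizer (centralizer_le_normalizer_ws V a) (mem_centralizer_singleton_iff.mpr hg) hw
    have e : ∀ w : G, g * k * w * (g * k)⁻¹ * w⁻¹ =
        (g * (k * w * k⁻¹) * g⁻¹ * (k * w * k⁻¹)⁻¹) * (k * w * k⁻¹ * w⁻¹) := fun w => by group
    have haz : zpowers a ≤ ws V a ⊓ ws V r := by
      rw [zpowers_le]
      exact ⟨h.mem_ws_self har.left, h.mem_ws_of_col har.symm⟩
    refine ⟨mul_comm_of hg1 hk1, fun w hw => ?_, fun w hw => ?_⟩
    · rw [e]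
      exact mul_mem (hg2 _ (hwa k w hk1 hw)) (hk2 w hw)
    · rw [e]
      refine mul_mem (hg3 _ ?_) (hk3 w hw)
      have := mul_mem (haz (hk3 w hw)) hw
      rwa [inv_mul_cancel_right] at this
  one_mem' := ⟨by simp, fun w _ => by simp [one_mem], fun w _ => by simp⟩
  inv_mem' := by
    rintro g ⟨hg1, hg2, hg3⟩
    have hga : g⁻¹ * a = a * g⁻¹ := inv_comm_of hg1
    have hwa : ∀ w ∈ ws V a, g⁻¹ * w * g ∈ ws V a := fun w hw =>
      conj_mem_of_normalizer' (centralizer_le_normalizer_ws V a) (mem_centralizer_singleton_iff.mpr hg1) hw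
    have e : ∀ w : G, g⁻¹ * w * g⁻¹⁻¹ * w⁻¹ = (g * (g⁻¹ * w * g) * g⁻¹ * (g⁻¹ * w * g)⁻¹)⁻¹ := fun w => by group
    have haz : zpowers a ≤ ws V a ⊓ ws V r := by
      rw [zpowers_le]
      exact ⟨h.mem_ws_self har.left, h.mem_ws_of_col har.symm⟩
    refine ⟨hga, fun w hw => ?_, fun w hw => ?_⟩
    · rw [e]
      exact inv_mem (hg2 _ (hwa w hw))
    · have e2 : g⁻¹ * w * g⁻¹⁻¹ * w⁻¹ = g⁻¹ * (g * w * g⁻¹ * w⁻¹)⁻¹ * g⁻¹⁻¹ * (w * (w⁻¹ * 1 * w) * w⁻¹) := by
        group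
      rw [e2, mul_one, inv_mul_cancel, mul_one, mul_inv_cancel, mul_one,
        TyN.zc (mem_centralizer_singleton_iff.mpr hga) (inv_mem (hg3 w hw))]
      exact inv_mem (hg3 w hw)

theorem mem_ss {h : Fr T V z} {har : Col V a r} {g : G} : g ∈ ss h har ↔ Sg V a r g := Iff.rfl

/-- `K_a ≤ S` -/
theorem kq_le_ss (h : Fr T V z) (har : Col V a r) : kq V a ≤ ss h har := by
  intro k hk
  have haz : zpowers a ≤ ws V a ⊓ ws V r := by
    rw [zpowers_le]
    exact ⟨h.mem_ws_self har.left, h.mem_ws_of_col har.symm⟩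
  exact ⟨mem_centralizer_singleton_iff.mp (kq_le_centralizer V a hk), fun w hw => haz (kq_comm hk hw),
    fun w hw => kq_comm hk hw.1⟩

/-- squares of elements of `S` lie in `K_a` -/
theorem sq_mem_kq (h : Fr T V z) (har : Col V a r) {g : G} (hg : Sg V a r g) : g * g ∈ kq V a := by
  refine mem_kq_of h har.left (mul_comm_of hg.1 hg.1) fun w hw => ?_
  set i := g * w * g⁻¹ * w⁻¹ with hi
  have hi1 := hg.2.1 w hw
  rw [← hi] at hi1
  have hi2 := hg.2.2 i hi1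
  have hii : i * i = 1 := h.ws_sq har.left i hi1.1
  have e1 : g * w * g⁻¹ = i * w := by rw [hi]; group
  have e : g * g * w * (g * g)⁻¹ * w⁻¹ = g * i * g⁻¹ * i⁻¹ := by
    calc g * g * w * (g * g)⁻¹ * w⁻¹ = g * (g * w * g⁻¹) * g⁻¹ * w⁻¹ := by group
      _ = g * (i * w) * g⁻¹ * w⁻¹ := by rw [e1]
      _ = g * i * g⁻¹ * (g * w * g⁻¹) * w⁻¹ := by group
      _ = g * i * g⁻¹ * (i * w) * w⁻¹ := by rw [e1]
      _ = g * i * g⁻¹ * i := by group
      _ = g * i * g⁻¹ * i⁻¹ := by rw [inv_eq_self hii]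
  rw [e]
  exact hi2

theorem rad_ss (h : Fr T V z) (har : Col V a r) : Rad V a r (ss h har) where
  le := fun g hg => mem_centralizer_singleton_iff.mpr hg.1
  two := fun g hg => ⟨1, by rw [pow_one, pow_two]; exact sq_mem_kq h har hg⟩
  fix := fun g hg => hg.2.2 r ⟨h.mem_ws_of_col har, h.mem_ws_self har.right⟩
  nrm := by
    rintro g hga hgr q ⟨hq1, hq2, hq3⟩
    have hga' : g⁻¹ * a = a * g⁻¹ := inv_comm_of hga
    have hgr' : g⁻¹ * r = r * g⁻¹ := inv_comm_of hgr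
    have key : ∀ g : G, g * a = a * g → g * r = r * g → ∀ w ∈ ws V a ⊓ ws V r, g * w * g⁻¹ ∈ ws V a ⊓ ws V r := by
      intro g hga hgr w hw
      exact ⟨conj_mem_of_normalizer (centralizer_le_normalizer_ws V a) (mem_centralizer_singleton_iff.mpr hga) hw.1,
        conj_mem_of_normalizer (centralizer_le_normalizer_ws V r) (mem_centralizer_singleton_iff.mpr hgr) hw.2⟩
    have e : ∀ w : G, g * q * g⁻¹ * w * (g * q * g⁻¹)⁻¹ * w⁻¹ =
        g * (q * (g⁻¹ * w * g⁻¹⁻¹) * q⁻¹ * (g⁻¹ * w * g⁻¹⁻¹)⁻¹) * g⁻¹ := fun w => by group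
    refine ⟨mul_comm_of (mul_comm_of hga hq1) hga', fun w hw => ?_, fun w hw => ?_⟩
    · rw [e]
      refine key g hga hgr _ (hq2 _ ?_)
      exact conj_mem_of_normalizer (centralizer_le_normalizer_ws V a) (mem_centralizer_singleton_iff.mpr hga') hw
    · rw [e, TyN.zc (mem_centralizer_singleton_iff.mpr hga) (hq3 _ (key g⁻¹ hga' hgr' w hw))]
      exact hq3 _ (key g⁻¹ hga' hgr' w hw)

end Cfsg.Agent.Omega.NO3S.TwoMid.Beta
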