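import Cfsg.Agent.Omega.NO3S.TwoMid.Beta.Main
import Cfsg.Agent.Omega.NO3S.TwoMid.NOm
import Cfsg.Agent.Omega.NO3S.TwoMid.Opp

/-!
# NO-3S, `|V| = 4`, TwoMid-B: (D)(β) is dead, in the form of `TwoMid/Opp.lean` (`DT`)

* `no_of_nom`, `nom_of_no` : `Beta.NO V` is `NOm V`;
* `beta` : the hypothesis `beta` of `DT.false`.
-/

set_option autoImplicit false

namespace Cfsg.Agent.Omega.NO3S.TwoMid.Beta

open Subgroup Cfsg.Agent.Omega.NO3S.Pt

universe u

variable {G : Type u} [Group G] {T V : Subgroup G} {z : G}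

theorem no_of_nom (h : NOm V) : NO V := fun a r har hne _ A hR hA hsq =>
  h a r har hne A ⟨_, hA, hR.le, hR.nrm, hR.fix, hR.two⟩ hsq

theorem nom_of_no (h : NO V) : NOm V := by
  rintro b r hbr hne X ⟨N, hX, h1, h2, h3, h4⟩ hsq
  exact h b r hbr hne N X ⟨h1, h4, h3, h2⟩ hX hsq

variable [Finite G]

/-- **(D)(β) is dead**, for `DT.false` -/
theorem beta (hNO : NOm V) : ∀ a r b x f, DT T V z a r b x f → ¬ Com V x r := fun _ _ _ _ _ hD =>
  beta_dead (no_of_nom hNO) hD.mid hD.col hD.mem hD.ne hD.le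

/-- `N_p = ⟨p⟩` for all points, if some (D)-triple has `[W_x, W_r] = 1` -/
theorem nb_of_beta (hNO : NOm V) {a r b x f : G} (hD : DT T V z a r b x f) (hcom : Com V x r) : NB V :=
  Bt.nb { hD.mid with bx := hD.col, fm := hD.mem, xf := hD.ne, D := hD.le, com := hcom, no := no_of_nom hNO }

end Cfsg.Agent.Omega.NO3S.TwoMid.Beta
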